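import Mathlib
import Cfsg.Agent.Lib.helper3.SU5.Defs
import Cfsg.Agent.Lib.helper17.SLP.Defs

/-!
# Project SU5, tables half (designer helper27): the diagonal / semilinear endomorphisms of the two rank one groups

`dA e` (`SL₂(F)`, conjugation by `diag(e, 1)`), `sA` (`SL₂(F)`, entrywise `star`), `dB e` (`SUm F True`, conjugation by `diag(e, 1, (star e)⁻¹)`), with their values on the root elements.
They are used for the HOM EQUALITY trick: if `g : G` conjugates the images of a generating set of a rank one group `M` (under `φ : M →* G`) to `φ (Δ m)`, then `cj g ∘ φ = φ ∘ Δ`.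
-/

set_option autoImplicit false

namespace Cfsg.Agent.Lib.Helper27.SU5T

open Cfsg.Agent.Lib.helper15.St2 Cfsg.Agent.Lib.Helper27.STU Cfsg.Agent.Lib.helper3.SU5
open Cfsg.Agent.Lib.helper17.SLP (xM hM wM)

universe u

variable {F : Type u} [Field F]

/-- conjugation by `diag(e, 1)` on `2 × 2` matrices -/
def dAm (e : Fˣ) (A : Matrix (Fin 2) (Fin 2) F) : Matrix (Fin 2) (Fin 2) F :=
  !![A 0 0, (e : F) * A 0 1; ((e⁻¹ : Fˣ) : F) * A 1 0, A 1 1]

theorem dAm_mul (e : Fˣ) (A B : Matrix (Fin 2) (Fin 2) F) : dAm e (A * B) = dAm e A * dAm e B := by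
  have he : (e : F) * ((e⁻¹ : Fˣ) : F) = 1 := by simp
  ext i j
  fin_cases i <;> fin_cases j
  · simp only [dAm, Matrix.mul_apply, Fin.sum_univ_two, Matrix.of_apply, Matrix.cons_val', Matrix.cons_val_zero,
      Matrix.cons_val_one, Fin.zero_eta, Fin.mk_one, Matrix.cons_val_fin_one]
    linear_combination (-(A 0 1 * B 1 0)) * he
  · simp only [dAm, Matrix.mul_apply, Fin.sum_univ_two, Matrix.of_apply, Matrix.cons_val', Matrix.cons_val_zero,
      Matrix.cons_val_one, Fin.zero_eta, Fin.mk_one, Matrix.cons_val_fin_one]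
    ring
  · simp only [dAm, Matrix.mul_apply, Fin.sum_univ_two, Matrix.of_apply, Matrix.cons_val', Matrix.cons_val_zero,
      Matrix.cons_val_one, Fin.zero_eta, Fin.mk_one, Matrix.cons_val_fin_one]
    ring
  · simp only [dAm, Matrix.mul_apply, Fin.sum_univ_two, Matrix.of_apply, Matrix.cons_val', Matrix.cons_val_zero,
      Matrix.cons_val_one, Fin.zero_eta, Fin.mk_one, Matrix.cons_val_fin_one]
    linear_combination (-(A 1 0 * B 0 1)) * he

theorem dAm_det (e : Fˣ) (A : Matrix (Fin 2) (Fin 2) F) : (dAm e A).det = A.det := by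
  have he : (e : F) * ((e⁻¹ : Fˣ) : F) = 1 := by simp
  rw [Matrix.det_fin_two, Matrix.det_fin_two]
  simp only [dAm, Matrix.of_apply, Matrix.cons_val', Matrix.cons_val_zero, Matrix.cons_val_one, Matrix.cons_val_fin_one]
  linear_combination (-(A 0 1 * A 1 0)) * he

theorem dAm_one (e : Fˣ) : dAm e (1 : Matrix (Fin 2) (Fin 2) F) = 1 := by
  ext i j
  fin_cases i <;> fin_cases j <;> simp [dAm]

/-- conjugation by `diag(e, 1)` on `SL₂(F)` -/
def dA (e : Fˣ) : Matrix.SpecialLinearGroup (Fin 2) F →* Matrix.SpecialLinearGroup (Fin 2) F where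
  toFun M := ⟨dAm e M.1, by rw [dAm_det]; exact M.2⟩
  map_one' := Subtype.ext (dAm_one e)
  map_mul' M N := Subtype.ext (dAm_mul e M.1 N.1)

theorem dA_coe (e : Fˣ) (M : Matrix.SpecialLinearGroup (Fin 2) F) :
    ((dA e M : Matrix.SpecialLinearGroup (Fin 2) F) : Matrix (Fin 2) (Fin 2) F) =
      !![M.1 0 0, (e : F) * M.1 0 1; ((e⁻¹ : Fˣ) : F) * M.1 1 0, M.1 1 1] := rfl

theorem dA_xm (e : Fˣ) (t : F) : dA e (xm t) = xm ((e : F) * t) := by
  apply Subtype.ext
  rw [dA_coe]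
  ext i j
  fin_cases i <;> fin_cases j <;> simp [xm]

theorem dA_ym (e : Fˣ) (t : F) : dA e (ym t) = ym (((e⁻¹ : Fˣ) : F) * t) := by
  apply Subtype.ext
  rw [dA_coe]
  ext i j
  fin_cases i <;> fin_cases j <;> simp [ym]

theorem dA_hM (e s : Fˣ) : dA e (hM s) = hM s := by
  apply Subtype.ext
  rw [dA_coe]
  ext i j
  fin_cases i <;> fin_cases j <;> simp [hM]

theorem dA_wM (e : Fˣ) : dA e (wM : Matrix.SpecialLinearGroup (Fin 2) F) = wM * hM e⁻¹ := by
  apply Subtype.ext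
  rw [dA_coe, Matrix.SpecialLinearGroup.coe_mul]
  ext i j
  fin_cases i <;> fin_cases j <;> simp [wM, hM, Matrix.mul_apply, Fin.sum_univ_two]

variable [StarRing F]

/-- entrywise `star` on `SL₂(F)` -/
def sA : Matrix.SpecialLinearGroup (Fin 2) F →* Matrix.SpecialLinearGroup (Fin 2) F :=
  Matrix.SpecialLinearGroup.map (starRingEnd F)

theorem sA_coe (M : Matrix.SpecialLinearGroup (Fin 2) F) :
    ((sA M : Matrix.SpecialLinearGroup (Fin 2) F) : Matrix (Fin 2) (Fin 2) F) = M.1.map (starRingEnd F) := rfl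

theorem sA_xm (t : F) : sA (xm t) = xm (star t) := by
  apply Subtype.ext
  rw [sA_coe]
  ext i j
  fin_cases i <;> fin_cases j <;> simp [xm] <;> rfl

theorem sA_ym (t : F) : sA (ym t) = ym (star t) := by
  apply Subtype.ext
  rw [sA_coe]
  ext i j
  fin_cases i <;> fin_cases j <;> simp [ym] <;> rfl

/-! ## The diagonal endomorphisms of the rank one group `SUm F od` -/

/-- the diagonal of `diag(e, 1, (star e)⁻¹)` -/
def dvec (e : Fˣ) : Fin 3 → F := ![(e : F), 1, (star (e : F))⁻¹]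

/-- the inverse diagonal -/
def dvec' (e : Fˣ) : Fin 3 → F := ![((e⁻¹ : Fˣ) : F), 1, star (e : F)]

theorem dvec_mul (e : Fˣ) (i : Fin 3) : dvec e i * dvec' e i = 1 := by
  have h : star (e : F) ≠ 0 := star_ne_zero.2 e.ne_zero
  fin_cases i <;> simp [dvec, dvec', h]

theorem dvec_mul' (e : Fˣ) (i : Fin 3) : dvec' e i * dvec e i = 1 := by
  rw [mul_comm]; exact dvec_mul e i

/-- conjugation by `diag(e, 1, (star e)⁻¹)` on `3 × 3` matrices -/
def dSm (e : Fˣ) (A : Matrix (Fin 3) (Fin 3) F) : Matrix (Fin 3) (Fin 3) F :=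
  Matrix.diagonal (dvec e) * A * Matrix.diagonal (dvec' e)

theorem dSm_apply (e : Fˣ) (A : Matrix (Fin 3) (Fin 3) F) (i j : Fin 3) : dSm e A i j = dvec e i * A i j * dvec' e j := by
  simp [dSm, Matrix.diagonal_mul, Matrix.mul_diagonal]

theorem diag_mul_diag (e : Fˣ) : Matrix.diagonal (dvec' e) * Matrix.diagonal (dvec e) = (1 : Matrix (Fin 3) (Fin 3) F) := by
  rw [Matrix.diagonal_mul_diagonal]
  have : (fun i => dvec' e i * dvec e i) = fun _ => (1 : F) := funext (dvec_mul' e)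
  rw [this, Matrix.diagonal_one]

theorem dSm_mul (e : Fˣ) (A B : Matrix (Fin 3) (Fin 3) F) : dSm e (A * B) = dSm e A * dSm e B := by
  unfold dSm
  calc Matrix.diagonal (dvec e) * (A * B) * Matrix.diagonal (dvec' e)
      = Matrix.diagonal (dvec e) * A * 1 * B * Matrix.diagonal (dvec' e) := by
        simp only [Matrix.mul_one, Matrix.mul_assoc]
    _ = _ := by
        rw [← diag_mul_diag e]
        simp only [Matrix.mul_assoc]

theorem dSm_one (e : Fˣ) : dSm e (1 : Matrix (Fin 3) (Fin 3) F) = 1 := by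
  unfold dSm
  rw [Matrix.mul_one, Matrix.diagonal_mul_diagonal]
  have : (fun i => dvec e i * dvec' e i) = fun _ => (1 : F) := funext (dvec_mul e)
  rw [this, Matrix.diagonal_one]

theorem dSm_det (e : Fˣ) (A : Matrix (Fin 3) (Fin 3) F) : (dSm e A).det = A.det := by
  unfold dSm
  rw [Matrix.det_mul, Matrix.det_mul, mul_comm, ← mul_assoc, ← Matrix.det_mul, diag_mul_diag, Matrix.det_one, one_mul]

/-- conjugation by `diag(e, 1, (star e)⁻¹)` on `SL₃(F)` -/
def dS (e : Fˣ) : Matrix.SpecialLinearGroup (Fin 3) F →* Matrix.SpecialLinearGroup (Fin 3) F where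
  toFun M := ⟨dSm e M.1, by rw [dSm_det]; exact M.2⟩
  map_one' := Subtype.ext (dSm_one e)
  map_mul' M N := Subtype.ext (dSm_mul e M.1 N.1)

variable {od : Prop}

theorem dSm_XpM (e : Fˣ) (ξ : Lam F od) : dSm e (XpM ξ) = XpM (Lam.act (e : F) ξ) := by
  have h : star (e : F) ≠ 0 := star_ne_zero.2 e.ne_zero
  ext i j
  rw [dSm_apply]
  fin_cases i <;> fin_cases j <;> simp [XpM, dvec, dvec', h, star_mul'] <;> ring

theorem dSm_XmM (e : Fˣ) (ξ : Lam F od) : dSm e (XmM ξ) = XmM (Lam.act (star (e : F))⁻¹ ξ) := by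
  have h : star (e : F) ≠ 0 := star_ne_zero.2 e.ne_zero
  ext i j
  rw [dSm_apply]
  fin_cases i <;> fin_cases j <;> simp [XmM, dvec, dvec', h, star_mul', star_inv₀] <;> field_simp

theorem dS_XpS (e : Fˣ) (ξ : Lam F od) : dS e (XpS ξ) = XpS (Lam.act (e : F) ξ) :=
  Subtype.ext (dSm_XpM e ξ)

theorem dS_XmS (e : Fˣ) (ξ : Lam F od) : dS e (XmS ξ) = XmS (Lam.act (star (e : F))⁻¹ ξ) :=
  Subtype.ext (dSm_XmM e ξ)

theorem dS_mem (e : Fˣ) (x : Matrix.SpecialLinearGroup (Fin 3) F) (hx : x ∈ SUm F od) : dS e x ∈ SUm F od := by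
  have : (SUm F od).map (dS e) ≤ SUm F od := by
    unfold SUm
    rw [MonoidHom.map_closure, Subgroup.closure_le]
    rintro _ ⟨y, hy, rfl⟩
    rcases hy with ⟨ξ, rfl⟩ | ⟨ξ, rfl⟩
    · rw [dS_XpS]; exact Subgroup.subset_closure (Or.inl ⟨_, rfl⟩)
    · rw [dS_XmS]; exact Subgroup.subset_closure (Or.inr ⟨_, rfl⟩)
  exact this ⟨x, hx, rfl⟩

/-- conjugation by `diag(e, 1, (star e)⁻¹)` on the rank one group -/
def dB (e : Fˣ) : ↥(SUm F od) →* ↥(SUm F od) :=
  ((dS e).comp (SUm F od).subtype).codRestrict (SUm F od) (fun x => dS_mem e x.1 x.2)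

theorem dB_coe (e : Fˣ) (x : ↥(SUm F od)) : ((dB e x : ↥(SUm F od)) : Matrix.SpecialLinearGroup (Fin 3) F) = dS e x.1 := rfl

theorem dB_XpU (e : Fˣ) (ξ : Lam F od) : dB e (XpU ξ) = XpU (Lam.act (e : F) ξ) :=
  Subtype.ext (dS_XpS e ξ)

theorem dB_XmU (e : Fˣ) (ξ : Lam F od) : dB e (XmU ξ) = XmU (Lam.act (star (e : F))⁻¹ ξ) :=
  Subtype.ext (dS_XmS e ξ)

end Cfsg.Agent.Lib.Helper27.SU5T
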