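import Mathlib
import Cfsg.Agent.Lib.Helper27.SU5T.Endo

/-!
# Project SU5, the TABLES HALF (designer helper27): definitions

From a bounded list of relators to helper3's all-parameter tables `Tab5 D` (`Cfsg.Agent.Lib.helper3.SU5`), and then to `su5_main`.
`D : Dat F G` = (`φa : SL₂(F) →* G`, `φb : SUm F True →* G`, `ξ₀`).  Generators of `SL₂(F)`: `gA ζ = ![xM 1, hM ζ, wM]` (`ζ` a generator of `Fˣ`); generators of `SUm F True`: any `gB : Fin nb → SUm F True`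
with `closure (range gB) = ⊤`.  Torus elements: `hA = φa (hM ζ)`, `hB = φb τ` (`τ` the diagonal element of `SUm` with ratio `ζ`: `IsTor τ ζ`).
The 15 + 2 nb relations `HypU`: four FAMILIES (`A`: `hB` on `φa`, `B`: `hA` on `φb`, `C`: `nB⁻¹ nA nB` on `φa`, `D`: `nA⁻¹ nB nA` on `φb`; each says that the conjugate of the image of a GENERATOR is the image of its
transform under an explicit endomorphism `dA e`, `dA ρ ∘ sA`, `dB e` of the rank one group - HOM EQUALITY then gives it for all elements), the braid relation, and two base instances of each of the commutator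
formulas `C4 C2 C3 C1` of helper27's `STU/SU5tables.md`.
VALIDATED: the families and the braid relation numerically in `SU₅(q)`, `q = 2, 3, 4, 5` (`psu/hypu_chk.py`); the whole relator set by Todd-Coxeter: `q = 2` index `63360` over `SU₃(2)`, `q = 3` index `5336280` over `⟨SU₃(3), h_a⟩`.
-/

set_option autoImplicit false

namespace Cfsg.Agent.Lib.Helper27.SU5T

open Cfsg.Agent.Lib.helper15.St2 Cfsg.Agent.Lib.Helper27.STU Cfsg.Agent.Lib.helper3.SU5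
open Cfsg.Agent.Lib.helper17.SLP (xM hM wM)

universe u v w

/-- the three marked generators of `SL₂(F)` -/
def gA {F : Type u} [Field F] (ζ : Fˣ) : Fin 3 → Matrix.SpecialLinearGroup (Fin 2) F := ![xM 1, hM ζ, wM]

/-- `x` is the diagonal element `diag(r, star r / r, (star r)⁻¹)` of the rank one group -/
def IsTor {F : Type u} [Field F] [StarRing F] {od : Prop} (x : ↥(SUm F od)) (r : F) : Prop :=
  ((x : Matrix.SpecialLinearGroup (Fin 3) F) : Matrix (Fin 3) (Fin 3) F) = Matrix.diagonal ![r, star r / r, (star r)⁻¹]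

/-- a marked presentation of `M` on `n` generators (universal property in the HOM form, for groups in `Type`) -/
structure Marked (M : Type v) [Group M] (n : ℕ) where
  g : Fin n → M
  L : List (FreeGroup (Fin n))
  gen : Subgroup.closure (Set.range g) = ⊤
  rel : ∀ r ∈ L, FreeGroup.lift g r = 1
  univ : ∀ (H : Type) [Group H] (x : Fin n → H), (∀ r ∈ L, FreeGroup.lift x r = 1) → ∃ φ : M →* H, ∀ i, φ (g i) = x i

/-- the product of the images of a list of elements of `M₁ ⊕ M₂` -/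
def mix {M₁ : Type u} {M₂ : Type v} {G : Type w} [Group M₁] [Group M₂] [Group G] (φ₁ : M₁ →* G) (φ₂ : M₂ →* G)
    (l : List (M₁ ⊕ M₂)) : G :=
  (l.map (Sum.elim φ₁ φ₂)).prod

section hyp

variable {F : Type u} [Field F] [StarRing F] {G : Type w} [Group G]

/-- the torus acts on the four positive root maps through the characters of `h_a(s) h_b(r)` (helper27's `SU5tables.md`) -/
structure TorAct (D : Dat F G) (h : G) (s r : Fˣ) : Prop where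
  xA : ∀ t, cj h (D.xA t) = D.xA ((s : F) ^ 2 / (r : F) * t)
  xB : ∀ ξ, cj h (D.xB ξ) = D.xB (Lam.act ((s : F)⁻¹ * (r : F) ^ 2 / star (r : F)) ξ)
  xC : ∀ ξ, cj h (D.xC ξ) = D.xC (Lam.act ((s : F) * (r : F) / star (r : F)) ξ)
  xD : ∀ t, cj h (D.xD t) = D.xD ((s : F) / star (s : F) * star (r : F) * t)

/-- The `15 + 2 nb` structural relations between `φa` and `φb`. -/
structure HypU (D : Dat F G) (ζ ρ κ : Fˣ) (τ : ↥(SUm F True)) {nb : ℕ} (gB : Fin nb → ↥(SUm F True)) (θ : F)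
    (ξ₁ ξ₂ : Lam F True) : Prop where
  /-- family A: `h_b` normalises `φa(SL₂)`: `x_α(t) ↦ x_α(t / ζ)` -/
  famA : ∀ i, cj (D.φb τ) (D.φa (gA ζ i)) = D.φa (dA ζ⁻¹ (gA ζ i))
  /-- family B: `h_a` normalises `φb(SU₃)`: `x_β(ξ) ↦ x_β(act ζ⁻¹ ξ)` -/
  famB : ∀ i, cj (D.φa (hM ζ)) (D.φb (gB i)) = D.φb (dB ζ⁻¹ (gB i))
  /-- family C: the reflection in `α + 2β` normalises `φa(SL₂)` (semilinearly): `x_α(t) ↦ x_α(ρ * star t)`, `ρ = c₀ / star c₀` -/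
  famC : ∀ i, cj (D.nB⁻¹ * D.nA * D.nB) (D.φa (gA ζ i)) = D.φa (dA ρ (sA (gA ζ i)))
  /-- family D: the reflection in `α + β` normalises `φb(SU₃)`: `x_β(ξ) ↦ x_β(act κ ξ)`, `κ = -(c₀ / star c₀)` -/
  famD : ∀ i, cj (D.nA⁻¹ * D.nB * D.nA) (D.φb (gB i)) = D.φb (dB κ (gB i))
  braid : D.nA * D.nB * D.nA * D.nB = D.nB * D.nA * D.nB * D.nA
  c4a : D.xA 1 * D.xC ξ₁ = D.xC ξ₁ * D.xA 1
  c4b : D.xA θ * D.xC ξ₁ = D.xC ξ₁ * D.xA θ
  c2a : Pre.cm (D.xB ξ₁) (D.xC ξ₁) = D.xD (star ξ₁.v * ξ₁.v)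
  c2b : Pre.cm (D.xB ξ₂) (D.xC ξ₁) = D.xD (star ξ₂.v * ξ₁.v)
  c3a : Pre.cm (D.xA 1) (D.xD 1) = D.xC (Lam.tr (-(1 * star 1)))
  c3b : Pre.cm (D.xA θ) (D.xD 1) = D.xC (Lam.tr (-(θ * star 1)))
  c1a : Pre.cm (D.xB ξ₁) (D.xA 1) = D.xD (star ξ₁.c * 1) * D.xC (Lam.act (-1) (Lam.bar ξ₁))
  c1b : Pre.cm (D.xB ξ₁) (D.xA θ) = D.xD (star ξ₁.c * θ) * D.xC (Lam.act (-θ) (Lam.bar ξ₁))

/-- the side conditions on the parameters -/
structure Par (D : Dat F G) (ζ ρ κ : Fˣ) (τ : ↥(SUm F True)) {nb : ℕ} (gB : Fin nb → ↥(SUm F True)) (θ : F)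
    (ξ₁ ξ₂ : Lam F True) : Prop where
  hζ : ∀ y : Fˣ, y ∈ Subgroup.zpowers ζ
  hτ : IsTor τ (ζ : F)
  hgB : Subgroup.closure (Set.range gB) = ⊤
  hc : D.ξ₀.c ≠ 0
  hρ : (ρ : F) = D.ξ₀.c / star D.ξ₀.c
  hκ : (κ : F) = -(D.ξ₀.c / star D.ξ₀.c)
  hθ : star θ ≠ θ
  hξ₁ : ξ₁.v = 1
  hξ₂ : ξ₂.v = θ

/-- `D₀` is the data of the Steinberg system `S₀` (the model side) -/
structure Mod (D₀ : Dat F G) (S₀ : SysU F True (Fin 2) G) : Prop where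
  xA : ∀ t, D₀.xA t = S₀.xs (Sum.inl 0) (Sum.inl 1) t
  yA : ∀ t, D₀.yA t = S₀.xs (Sum.inl 1) (Sum.inl 0) t
  xB : ∀ ξ, D₀.xB ξ = S₀.xl (Sum.inl 1) ξ
  yB : ∀ ξ, D₀.yB ξ = S₀.xl (Sum.inr 1) ξ

end hyp

/-! ## The relations as equalities of mixed words (for the presentation) -/

section words

variable {F : Type u} [Field F] [StarRing F]

/-- the type of mixed letters: elements of the two rank one groups -/
abbrev Lt (F : Type u) [Field F] [StarRing F] : Type u := Matrix.SpecialLinearGroup (Fin 2) F ⊕ ↥(SUm F True)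

/-- the word of `n_a` -/
def lnA : List (Lt F) := [Sum.inl wM]
/-- the word of `n_a⁻¹` -/
def lnA' : List (Lt F) := [Sum.inl wM⁻¹]
/-- the word of `n_b` -/
def lnB (ξ₀ : Lam F True) : List (Lt F) := [Sum.inr (WU ξ₀)]
/-- the word of `n_b⁻¹` -/
def lnB' (ξ₀ : Lam F True) : List (Lt F) := [Sum.inr (WU ξ₀)⁻¹]
/-- the word of `x_α(t)` -/
def lxA (t : F) : List (Lt F) := [Sum.inl (xm t)]
/-- the word of `x_β(ξ)` -/
def lxB (ξ : Lam F True) : List (Lt F) := [Sum.inr (XpU ξ)]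
/-- the word of `x_{α+β}(ξ) = cj n_a (x_β(ξ))` -/
def lxC (ξ : Lam F True) : List (Lt F) := lnA ++ lxB ξ ++ lnA'
/-- the word of `x_{α+2β}(t) = cj n_b (x_α(t / star c₀))` -/
def lxD (ξ₀ : Lam F True) (t : F) : List (Lt F) := lnB ξ₀ ++ lxA (t / star ξ₀.c) ++ lnB' ξ₀
/-- the word of the commutator `cm x y = x y x⁻¹ y⁻¹` (`x'`, `y'` the words of the inverses) -/
def lcm (x y x' y' : List (Lt F)) : List (Lt F) := x ++ y ++ x' ++ y'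

/-- The `15 + 2 nb` relations of `HypU` as pairs of mixed words. -/
def XU (ξ₀ : Lam F True) (ζ ρ κ : Fˣ) (τ : ↥(SUm F True)) {nb : ℕ} (gB : Fin nb → ↥(SUm F True)) (θ : F)
    (ξ₁ ξ₂ : Lam F True) : List (List (Lt F) × List (Lt F)) :=
  List.ofFn (fun i : Fin 3 => (([Sum.inr τ, Sum.inl (gA ζ i), Sum.inr τ⁻¹] : List (Lt F)), [Sum.inl (dA ζ⁻¹ (gA ζ i))])) ++
  List.ofFn (fun i : Fin nb => (([Sum.inl (hM ζ), Sum.inr (gB i), Sum.inl (hM ζ)⁻¹] : List (Lt F)), [Sum.inr (dB ζ⁻¹ (gB i))])) ++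
  List.ofFn (fun i : Fin 3 => (lnB' ξ₀ ++ lnA ++ lnB ξ₀ ++ [Sum.inl (gA ζ i)] ++ (lnB' ξ₀ ++ lnA' ++ lnB ξ₀),
    ([Sum.inl (dA ρ (sA (gA ζ i)))] : List (Lt F)))) ++
  List.ofFn (fun i : Fin nb => (lnA' ++ lnB ξ₀ ++ lnA ++ [Sum.inr (gB i)] ++ (lnA' ++ lnB' ξ₀ ++ lnA),
    ([Sum.inr (dB κ (gB i))] : List (Lt F)))) ++
  [(lnA ++ lnB ξ₀ ++ lnA ++ lnB ξ₀, lnB ξ₀ ++ lnA ++ lnB ξ₀ ++ lnA),
   (lxA 1 ++ lxC ξ₁, lxC ξ₁ ++ lxA 1),
   (lxA θ ++ lxC ξ₁, lxC ξ₁ ++ lxA θ),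
   (lcm (lxB ξ₁) (lxC ξ₁) (lxB ξ₁⁻¹) (lxC ξ₁⁻¹), lxD ξ₀ (star ξ₁.v * ξ₁.v)),
   (lcm (lxB ξ₂) (lxC ξ₁) (lxB ξ₂⁻¹) (lxC ξ₁⁻¹), lxD ξ₀ (star ξ₂.v * ξ₁.v)),
   (lcm (lxA 1) (lxD ξ₀ 1) (lxA (-1)) (lxD ξ₀ (-1)), lxC (Lam.tr (-(1 * star 1)))),
   (lcm (lxA θ) (lxD ξ₀ 1) (lxA (-θ)) (lxD ξ₀ (-1)), lxC (Lam.tr (-(θ * star 1)))),
   (lcm (lxB ξ₁) (lxA 1) (lxB ξ₁⁻¹) (lxA (-1)), lxD ξ₀ (star ξ₁.c * 1) ++ lxC (Lam.act (-1) (Lam.bar ξ₁))),
   (lcm (lxB ξ₁) (lxA θ) (lxB ξ₁⁻¹) (lxA (-θ)), lxD ξ₀ (star ξ₁.c * θ) ++ lxC (Lam.act (-θ) (Lam.bar ξ₁)))]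

end words

end Cfsg.Agent.Lib.Helper27.SU5T
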